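import Groth.Agent.H9Misc.VeryAmpleFibre
import Groth.Agent.PPSheaf.Gen
import Groth.Agent.ProjUPX.Affine

/-!
# Relative very ampleness from the fibres over an arbitrary base

The same arguments as in `H9Misc.FibreSectionLift` and `H9Misc.VeryAmpleFibre`, with finite presentation
of the morphism in place of a locally Noetherian base.
-/

set_option linter.style.haveILetI false
set_option linter.unusedSectionVars false
set_option maxHeartbeats 800000
set_option backward.isDefEq.respectTransparency false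
set_option backward.isDefEq.respectTransparency.types false

universe u

open CategoryTheory Limits AlgebraicGeometry TopologicalSpace Opposite

noncomputable section

namespace Groth.Agent.RelVAFib

open Groth.Agent Groth.Agent.H23 Groth.Agent.SeesawX.PnSpec Groth.Agent.H9Misc Groth.Agent.H9Misc.VeryAmpleFibre

variable {X Y : Scheme.{u}} (f : X ⟶ Y)

/-- Sections on a fibre come from sections over a neighbourhood. -/
theorem exists_lift [IsProper f] [Flat f] [LocallyOfFinitePresentation f] (L : X.Modules) (hqc : Coh.IsQCoh L)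
    (hfp : CohB1.IsFP L) (hfl : FlatMod.IsFlatOver f L)
    (h1 : ∀ y : Y, Subsingleton (CohIII.fiberH f L y 1)) (y : Y)
    (t : Γ((Scheme.Modules.pullback (f.fiberι y)).obj L, ⊤)) :
    ∃ (W : Y.Opens) (_ : y ∈ W) (hle : (⊤ : (f.fiber y).Opens) ≤ f.fiberι y ⁻¹ᵁ (f ⁻¹ᵁ W)) (s : Γ(L, f ⁻¹ᵁ W)),
      QCoh.pullSec (f.fiberι y) L hle s = t := by
  haveI := hqc
  let j := Y.fromSpecResidueField y
  haveI : IsIso (CohBC.bc0 f j (f.fiberToSpecResidueField y) (f.fiberι y) (f.fiber_fac y) L) :=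
    (Groth.Agent.S14444.result f L hfp hfl h1).2 _ _ _ (IsPullback.of_hasPullback f j)
  let bc := CohBC.bc0 f j (f.fiberToSpecResidueField y) (f.fiberι y) (f.fiber_fac y) L
  let N := (Scheme.Modules.pullback (f.fiberι y)).obj L
  let y₀ : ↥(Spec (Y.residueField y)) := IsLocalRing.closedPoint (Y.residueField y)
  obtain ⟨W, hW, s, hs⟩ := FibreLift.exists_pullSec_eq (K := Y.residueField y) j y₀
    (j.stalkMap_surjective y₀) ((Scheme.Modules.pushforward f).obj L)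
    ((inv bc).app ⊤ (show Γ((Scheme.Modules.pushforward (f.fiberToSpecResidueField y)).obj N, ⊤) from t))
  have hy : y ∈ W := Scheme.fromSpecResidueField_apply y y₀ ▸ hW (x := y₀) trivial
  have hle : (⊤ : (f.fiber y).Opens) ≤ f.fiberι y ⁻¹ᵁ (f ⁻¹ᵁ W) := by
    intro z _
    show f (f.fiberι y z) ∈ W
    have : f.fiberι y z ∈ Set.range (f.fiberι y) := ⟨z, rfl⟩
    rw [Scheme.Hom.range_fiberι] at this
    rwa [show f (f.fiberι y z) = y from this]
  refine ⟨W, hy, hle, s, ?_⟩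
  have e1 := FibreLift.bc0_pullSec f j (f.fiberToSpecResidueField y) (f.fiberι y) (f.fiber_fac y) L hW hle s
  have e2 := FibreLift.app_eq_of_inv bc hs
  exact e1.symm.trans e2


variable (L : X.Modules)

/-- Relative very ampleness near a point with very ample fibre. -/
theorem exists_nhd_isRelVeryAmplePn [IsProper f] [Flat f] [LocallyOfFinitePresentation f] (hL : PicF.IsInvertible L)
    (h1 : ∀ y : Y, Subsingleton (CohIII.fiberH f L y 1)) (y : Y)
    (hva : RelAmple.IsRelVeryAmplePn (f.fiberToSpecResidueField y) ((Scheme.Modules.pullback (f.fiberι y)).obj L)) :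
    ∃ V : Y.Opens, y ∈ V ∧ RelAmple.IsRelVeryAmplePn (f ∣_ V) (L.restrict (f ⁻¹ᵁ V).ι) := by
  have hfin := InvEnd.isFinLocFreeOfRank_one hL
  have hqc : Coh.IsQCoh L := ProjUPX.isQCoh_of_isInvertible hL
  obtain ⟨N, iy, hiy, hiyB, ⟨eL⟩⟩ := hva
  let ry : f.fiber y ⟶ CohB1.ProjSpace N Zu := iy ≫ pZ N _
  let O1 := Twist.twistProjSpace N Zu.{u} 1
  let τy : (Scheme.Modules.pullback ry).obj O1 ≅ (Scheme.Modules.pullback (f.fiberι y)).obj L :=
    ((Scheme.Modules.pullbackComp iy (pZ N _)).app O1).symm ≪≫ eL.symm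
  let c : Fin (N + 1) → ProjUP.Γm ((Scheme.Modules.pullback ry).obj O1) :=
    fun i => ProjUP.pullSec ry O1 (ProjUP.coord N Zu i)
  let t : Fin (N + 1) → ProjUP.Γm ((Scheme.Modules.pullback (f.fiberι y)).obj L) := fun i => τy.hom.app ⊤ (c i)
  choose W hyW hle s hs using fun i => exists_lift f L hqc (QCoh.isFP_of_isFinLocFree (fun x => by obtain ⟨U, hx, e⟩ := hfin x; exact ⟨U, 1, hx, e⟩))
    (Seesaw.isFlatOver_of_isInvertible f hL) h1 y (t i)
  obtain ⟨_, ⟨V₀, hV₀, rfl⟩, hyV₀, hV₀W⟩ :=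
    Y.isBasis_affineOpens.exists_subset_of_mem_open (a := y) (u := (⋂ i, (W i : Set Y)))
      (Set.mem_iInter.2 hyW) (isOpen_iInter_of_finite fun i => (W i).2)
  have hVW : ∀ i, V₀ ≤ W i := fun i x hx => Set.mem_iInter.1 (hV₀W hx) i
  let O₀ : X.Opens := f ⁻¹ᵁ V₀
  let M := (Scheme.Modules.pullback O₀.ι).obj L
  let S : Fin (N + 1) → ProjUP.Γm M := fun i => QCoh.pullSec O₀.ι L (V := O₀) (W := ⊤) O₀.ι_preimage_self.ge
    (L.presheaf.map (homOfLE (f.preimage_mono (hVW i))).op (s i))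
  let gy := fibIn f (V := V₀) hyV₀
  have hgy : gy ≫ O₀.ι = f.fiberι y := IsOpenImmersion.lift_fac _ _ _
  let e0 : (Scheme.Modules.pullback gy).obj M ≅ (Scheme.Modules.pullback (f.fiberι y)).obj L :=
    (Scheme.Modules.pullbackComp gy O₀.ι).app L ≪≫ (Scheme.Modules.pullbackCongr hgy).app L
  have hc0 : Carry e0 (fun i => ProjUP.pullSec gy M (S i)) t := fun i => by
    show ((Scheme.Modules.pullbackCongr hgy).hom.app L).app ⊤
      (((Scheme.Modules.pullbackComp gy O₀.ι).hom.app L).app ⊤ (ProjUP.pullSec gy M (S i))) = t i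
    rw [pullSec_eq]
    refine (congrArg (((Scheme.Modules.pullbackCongr hgy).hom.app L).app ⊤) (ExistEasy.pullSec_comp gy O₀.ι L
      (W := ⊤) (U := ⊤) (V := O₀) O₀.ι_preimage_self.ge le_rfl _)).trans ?_
    refine (ExistEasy.pullSec_congr hgy L _ _).trans ?_
    refine (ExistEasy.pullSec_res (f.fiberι y) L (f.preimage_mono (hVW i)) le_rfl (hle i) _ (s i)).symm.trans ?_
    rw [show homOfLE (le_rfl : (⊤ : (f.fiber y).Opens) ≤ ⊤) = 𝟙 _ from rfl, op_id]
    exact (QCoh.map_id' _ _).trans (hs i)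
  let τ0 : (Scheme.Modules.pullback ry).obj O1 ≅ (Scheme.Modules.pullback gy).obj M := τy ≪≫ e0.symm
  have hτ0 : Carry τ0 c (fun i => ProjUP.pullSec gy M (S i)) := Carry.trans (fun _ => rfl) hc0.symm
  have hM : PicF.IsInvertible M := PicClLib.isInvertible_pullback _ hL
  let G : ((O₀ : X.Opens) : Scheme.{u}).Opens := ⨆ i, TrivBasic.locus (S i)
  have hfib : ∀ z : f.fiber y, gy z ∈ G := fun z => by
    obtain ⟨j, hj⟩ := PnCoh.Chow.cov_coord (N := N) Zu.{u} (ry z)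
    refine Opens.mem_iSup.2 ⟨j.down, ?_⟩
    have h2 := (AmpleEmbed.preimage_chart ry τ0 j.down (hτ0 j.down)).le (show z ∈ ry ⁻¹ᵁ _ from hj)
    have h3 := TrivBasic.locus_pullElt hM gy (S j.down)
    exact h3.le h2
  obtain ⟨U₁, hyU₁, hU₁⟩ := Approx.FibreProper.exists_nhd_preimage_le f f.isClosedMap y (O₀.ι ''ᵁ G) fun x hx => by
    obtain ⟨z, rfl⟩ : x ∈ Set.range (f.fiberι y) := by rw [Scheme.Hom.range_fiberι]; exact hx
    exact ⟨gy z, hfib z, by show (gy ≫ O₀.ι) z = _; rw [hgy]⟩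
  obtain ⟨V₁, hV₁, hyV₁, hV₁U⟩ := exists_affine_nhd y (U₁ ⊓ V₀) ⟨hyU₁, hyV₀⟩
  have hV₁0 : V₁ ≤ V₀ := fun x hx => (hV₁U hx).2
  let O₁ : X.Opens := f ⁻¹ᵁ V₁
  let k := X.homOfLE (f.preimage_mono hV₁0)
  let M₁ := (Scheme.Modules.pullback k).obj M
  let S₁ : Fin (N + 1) → ProjUP.Γm M₁ := fun i => ProjUP.pullSec k M (S i)
  have hS₁ : ProjUP.GeneratedBy M₁ S₁ := AVAmple.generatedBy_of_locus _ fun x => by
    obtain ⟨x', hx', hxx⟩ := hU₁ (show (O₁.ι x : X) ∈ f ⁻¹ᵁ U₁ from (hV₁U x.2).1)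
    obtain rfl : x' = k x := O₀.ι.isOpenEmbedding.injective (by
      show O₀.ι x' = (k ≫ O₀.ι) x
      rw [Scheme.homOfLE_ι]
      exact hxx)
    obtain ⟨i, hi⟩ := Opens.mem_iSup.1 hx'
    exact ⟨i, (TrivBasic.locus_pullElt hM k (S i)).ge hi⟩
  obtain ⟨r, -, τr, hτr⟩ := S3572.result N (specULiftZIsTerminal.from _) M₁
    (PicClLib.isInvertible_pullback _ hM) S₁ hS₁
  have hcr : Carry τr (fun i => ProjUP.pullSec r O1 (ProjUP.coord N Zu i)) S₁ := hτr
  let g₁ := fibIn f (V := V₁) hyV₁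
  have hg₁ : g₁ ≫ k = gy := by
    rw [← cancel_mono O₀.ι, Category.assoc, Scheme.homOfLE_ι, IsOpenImmersion.lift_fac, hgy]
  have hr : g₁ ≫ r = ry := by
    let τ1 : (Scheme.Modules.pullback (g₁ ≫ r)).obj O1 ≅ (Scheme.Modules.pullback ry).obj O1 :=
      ((Scheme.Modules.pullbackComp g₁ r).app O1).symm ≪≫ (Scheme.Modules.pullback g₁).mapIso τr ≪≫
        (Scheme.Modules.pullbackComp g₁ k).app M ≪≫ (Scheme.Modules.pullbackCongr hg₁).app M ≪≫ τ0.symm
    refine S3573.result N _ _ (specULiftZIsTerminal.hom_ext _ _) τ1 ?_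
    exact ((carry_comp g₁ r O1 _).symm.trans ((hcr.pull g₁).trans ((carry_comp g₁ k M S).trans
      ((carry_congr hg₁ M S).trans hτ0.symm))))
  haveI : IsProper (CohB1.ProjSpace.toSpec N Zu.{u}) := PnCoh.Chow.isProper_toSpec N _
  let i₁ : (O₁ : Scheme.{u}) ⟶ CohB1.ProjSpaceOver N (V₁ : Scheme.{u}) := toP r (f ∣_ V₁)
  haveI : IsProper (pB N (V₁ : Scheme.{u})) := MorphismProperty.pullback_snd _ _ ‹_›
  haveI : IsClosedImmersion (toP (g₁ ≫ r) (f.fiberToSpecResidueField y)) := by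
    have : toP (g₁ ≫ r) (f.fiberToSpecResidueField y) = iy := by
      refine pullback.hom_ext ?_ ?_
      · rw [pullback.lift_fst, hr]
      · rw [pullback.lift_snd]; exact hiyB.symm
    rw [this]
    haveI : IsProper (pB N (Spec (Y.residueField y))) := MorphismProperty.pullback_snd _ _ ‹_›
    haveI : IsProper (f.fiberToSpecResidueField y) := MorphismProperty.pullback_snd _ _ ‹IsProper f›
    haveI : IsProper (iy ≫ pB N (Spec (Y.residueField y))) := by
      rw [show iy ≫ pB N (Spec (Y.residueField y)) = f.fiberToSpecResidueField y from hiyB]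
      infer_instance
    haveI : IsProper iy := IsProper.of_comp iy (pB N (Spec (Y.residueField y)))
    haveI : IsImmersion iy := hiy
    exact (IsClosedImmersion.iff_isProper_and_mono iy).2 ⟨inferInstance, inferInstance⟩
  let y₁ : (V₁ : Scheme.{u}) := ⟨y, hyV₁⟩
  let ρ : Spec ((V₁ : Scheme.{u}).residueField y₁) ⟶ Spec (Y.residueField y) :=
    Spec.map (V₁.ι.residueFieldMap y₁)
  have hρ : ρ ≫ ptIn (V := V₁) hyV₁ = (V₁ : Scheme.{u}).fromSpecResidueField y₁ := by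
    rw [← cancel_mono V₁.ι, Category.assoc, IsOpenImmersion.lift_fac]
    exact Scheme.Hom.SpecMap_residueFieldMap_fromSpecResidueField V₁.ι y₁
  let z : (pB N (V₁ : Scheme.{u})).fiber y₁ ⟶ CohB1.ProjSpaceOver N (Spec (Y.residueField y)) :=
    toP ((pB N (V₁ : Scheme.{u})).fiberι y₁ ≫ pZ N _) ((pB N (V₁ : Scheme.{u})).fiberToSpecResidueField y₁ ≫ ρ)
  haveI := isClosedImmersion_fiberMapOver i₁ (f ∣_ V₁) (pB N _) (pullback.lift_snd _ _ _) y₁
    (isPullback_toP r (f ∣_ V₁) (isPullback_fibIn f hyV₁)) z (by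
      refine pullback.hom_ext ?_ ?_
      · simp only [z, Category.assoc, pullback.lift_fst]
      · simp only [z, Category.assoc, pullback.lift_snd, pullback.lift_snd_assoc, hρ]
        exact (Scheme.Hom.fiber_fac _ _).symm)
  haveI : IsProper (f ∣_ V₁) := MorphismProperty.of_isPullback (isPullback_morphismRestrict f V₁).flip ‹IsProper f›
  obtain ⟨U₂, hyU₂, hU₂⟩ := Approx.FibreProper.exists_isClosedImmersion_nhd i₁ (f ∣_ V₁) (pB N _)
    (pullback.lift_snd _ _ _) y₁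
  obtain ⟨V, hV, hyV, hVU⟩ := exists_affine_nhd y (V₁.ι ''ᵁ U₂) ⟨y₁, hyU₂, rfl⟩
  have hV1 : V ≤ V₁ := fun x hx => by
    obtain ⟨x', -, rfl⟩ := hVU hx
    exact x'.2
  refine ⟨V, hyV, ?_⟩
  let k₂ := X.homOfLE (f.preimage_mono hV1)
  have sq := isPullback_toP r (f ∣_ V₁) (isPullback_restrict_homOfLE f hV1)
  let E : (CohB1.ProjSpaceOver N (V₁ : Scheme.{u})).Opens := pB N _ ⁻¹ᵁ U₂
  let b := bP (n := N) (Y.homOfLE hV1)
  let b' := IsOpenImmersion.lift E.ι b (by
    rw [Scheme.Opens.range_ι]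
    rintro _ ⟨w, rfl⟩
    show pB N _ (b w) ∈ U₂
    rw [← Scheme.Hom.comp_apply, show b ≫ pB N _ = pB N _ ≫ Y.homOfLE hV1 from pullback.lift_snd _ _ _,
      Scheme.Hom.comp_apply]
    obtain ⟨x', hx', hx2⟩ := hVU (pB N (V : Scheme.{u}) w).2
    obtain rfl : x' = Y.homOfLE hV1 (pB N (V : Scheme.{u}) w) := V₁.ι.isOpenEmbedding.injective (by
      show V₁.ι x' = (Y.homOfLE hV1 ≫ V₁.ι) (pB N (V : Scheme.{u}) w)
      rw [Scheme.homOfLE_ι]
      exact hx2)
    exact hx')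
  haveI : IsClosedImmersion (toP (k₂ ≫ r) (f ∣_ V)) := by
    have hR := (isPullback_morphismRestrict i₁ E).flip
    have h3 : IsPullback k₂ (toP (k₂ ≫ r) (f ∣_ V)) i₁ (b' ≫ E.ι) := by
      rw [IsOpenImmersion.lift_fac]; exact sq
    let l := hR.lift k₂ (toP (k₂ ≫ r) (f ∣_ V) ≫ b') (by rw [Category.assoc]; exact h3.w)
    exact MorphismProperty.of_isPullback
      (IsPullback.of_right (h₁₁ := l) (by rw [hR.lift_fst]; exact h3) (hR.lift_snd _ _ _) hR) hU₂
  let i₂ := toP (k₂ ≫ r) (f ∣_ V)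
  have hi₂ : i₂ ≫ pZ N (V : Scheme.{u}) = k₂ ≫ r := pullback.lift_fst _ _ _
  have hk : k₂ ≫ k ≫ O₀.ι = (f ⁻¹ᵁ V).ι := by rw [Scheme.homOfLE_ι, Scheme.homOfLE_ι]
  refine ⟨N, i₂, inferInstance, pullback.lift_snd _ _ _, ⟨?_⟩⟩
  exact ((Scheme.Modules.restrictFunctorIsoPullback (f ⁻¹ᵁ V).ι).app L) ≪≫
    ((Scheme.Modules.pullbackCongr hk).app L).symm ≪≫ ((Scheme.Modules.pullbackComp k₂ (k ≫ O₀.ι)).app L).symm ≪≫
    (Scheme.Modules.pullback k₂).mapIso (((Scheme.Modules.pullbackComp k O₀.ι).app L).symm ≪≫ τr.symm) ≪≫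
    (Scheme.Modules.pullbackComp k₂ r).app O1 ≪≫ ((Scheme.Modules.pullbackCongr hi₂).app O1).symm ≪≫
    ((Scheme.Modules.pullbackComp i₂ (pZ N (V : Scheme.{u}))).app O1).symm

/-- Relative very ampleness from the fibres. -/
theorem isRelVeryAmple [IsProper f] [Flat f] [LocallyOfFinitePresentation f] (hL : PicF.IsInvertible L)
    (h1 : ∀ y : Y, Subsingleton (CohIII.fiberH f L y 1))
    (hva : ∀ y : Y, RelAmple.IsRelVeryAmplePn (f.fiberToSpecResidueField y)
      ((Scheme.Modules.pullback (f.fiberι y)).obj L)) :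
    RelProj.IsRelVeryAmple f L := by
  choose V hyV hV using fun y => exists_nhd_isRelVeryAmplePn f L hL h1 y (hva y)
  exact Groth.Agent.S12481.result f L hL V
    (top_le_iff.1 fun y _ => Opens.mem_iSup.2 ⟨y, hyV y⟩) hV


end Groth.Agent.RelVAFib
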