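import Groth.Agent.RelVAFib.AnyBase
import Groth.Agent.CurveCover.FamilyFibre
import Groth.Agent.CurveVA.Main
import Groth.Agent.S14444
import Groth.Agent.RelVA16.Projective
import Groth.Agent.SeesawX.Glue

/-!
# Powers of the differentials of a family of curves of genus at least two are relatively very ample
-/

set_option linter.style.haveILetI false
set_option backward.isDefEq.respectTransparency false
set_option backward.isDefEq.respectTransparency.types false

universe u

open CategoryTheory CategoryTheory.Limits AlgebraicGeometry TopologicalSpace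

namespace Groth.Agent.RelVAFib

open Groth.Agent

section Field

variable (k : Type u) [Field k] (X : Scheme.{u}) [X.Over (Spec (CommRingCat.of k))]
  [IsProper (X ↘ Spec (CommRingCat.of k))] [Smooth (X ↘ Spec (CommRingCat.of k))]
  [GeometricallyConnected (X ↘ Spec (CommRingCat.of k))]

theorem geometricallyIntegral : GeometricallyIntegral (X ↘ Spec (CommRingCat.of k)) := by
  refine ⟨fun {K} _ y T fst snd h => ?_⟩
  letI : T.Over (Spec (CommRingCat.of K)) := ⟨snd⟩
  haveI : IsProper (T ↘ Spec (CommRingCat.of K)) := MorphismProperty.of_isPullback h ‹IsProper (X ↘ Spec (CommRingCat.of k))›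
  haveI : Smooth (T ↘ Spec (CommRingCat.of K)) := MorphismProperty.of_isPullback h ‹Smooth (X ↘ Spec (CommRingCat.of k))›
  haveI : GeometricallyConnected (T ↘ Spec (CommRingCat.of K)) :=
    MorphismProperty.of_isPullback h ‹GeometricallyConnected (X ↘ Spec (CommRingCat.of k))›
  exact CurveBC.isIntegral_of_h0 K T (CurveBC.finrank_h0_of_geometricallyConnected K T)

/-- The powers `n ≥ 3` of the differentials of a curve of genus at least two are very ample. -/
theorem exists_embedding_tensorPow_omega (hdim : topologicalKrullDim X = 1) (hg : 2 ≤ Curv2.genus k X)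
    {n : ℕ} (hn : 3 ≤ n) :
    ∃ (N : ℕ) (i : X ⟶ CohB1.ProjSpace N k), IsClosedImmersion i ∧
      i ≫ CohB1.ProjSpace.toSpec N k = X ↘ Spec (CommRingCat.of k) ∧
      Nonempty ((Scheme.Modules.pullback i).obj (Twist.twistProjSpace N k 1) ≅
        CohB1.tensorPow (Omega.sheaf (X ↘ Spec (CommRingCat.of k))) n) := by
  have h0 := CurveBC.finrank_h0_of_geometricallyConnected k X
  haveI := CurveBC.isIntegral_of_h0 k X h0
  haveI := geometricallyIntegral k X
  haveI := CurveCohLib.isNoetherian_of_proper (k := k) (X := X)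
  have hΩ := CurveBC.isInvertible_omega k X hdim h0
  refine CurveVA.exists_embedding k X hdim h0 (H23.PicMul.isInvertible_tensorPow hΩ n) ?_
  rw [CurveAmple.deg_tensorPow (k := k) hdim hΩ n, (CurveBC.canonical_invariants k X hdim h0).2]
  nlinarith [show (3 : ℤ) ≤ (n : ℤ) by exact_mod_cast hn, show (2 : ℤ) ≤ (Curv2.genus k X : ℤ) by exact_mod_cast hg]

end Field

variable {X S : Scheme.{u}} (f : X ⟶ S) [IsProper f] [Smooth f] [GeometricallyConnected f]

theorem isInvertible_omega (hdim : ∀ s : S, topologicalKrullDim ↥(f.fiber s) = 1) :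
    PicF.IsInvertible (Omega.sheaf f) := by
  refine CurveDuality.isInvertible_of_rank_one fun x => ?_
  obtain ⟨U, n, hxU, ⟨a⟩⟩ := CurveCover.isFinLocFree_omega_smooth f x
  let p := f.fiberToSpecResidueField (f x)
  letI : (f.fiber (f x)).Over (Spec (S.residueField (f x))) := ⟨p⟩
  haveI : IsProper p := MorphismProperty.pullback_snd _ _ inferInstance
  haveI : Smooth p := MorphismProperty.pullback_snd _ _ inferInstance
  haveI : IsProper ((f.fiber (f x)) ↘ Spec (CommRingCat.of ↥(S.residueField (f x)))) := ‹IsProper p›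
  haveI : Smooth ((f.fiber (f x)) ↘ Spec (CommRingCat.of ↥(S.residueField (f x)))) := ‹Smooth p›
  haveI : GeometricallyConnected ((f.fiber (f x)) ↘ Spec (CommRingCat.of ↥(S.residueField (f x)))) :=
    (inferInstance : GeometricallyConnected p)
  obtain ⟨eΩ⟩ := GrpOmega.nonempty_omega_baseChange (f := f) (g := S.fromSpecResidueField (f x))
    (g' := f.fiberι (f x)) (f' := p) (IsPullback.of_hasPullback _ _)
  have h0 := CurveBC.finrank_h0_of_geometricallyConnected ↥(S.residueField (f x)) (f.fiber (f x))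
  have hinv : PicF.IsInvertible ((Scheme.Modules.pullback (f.fiberι (f x))).obj (Omega.sheaf f)) :=
    H23.PicMul.isInvertible_of_iso eΩ.symm (CurveBC.isInvertible_omega ↥(S.residueField (f x)) (f.fiber (f x)) (hdim (f x)) h0)
  obtain ⟨x', hx'⟩ : x ∈ Set.range (f.fiberι (f x)) := by rw [Scheme.Hom.range_fiberι]; rfl
  let ι := f.fiberι (f x)
  let W := ι ⁻¹ᵁ U
  have h1 : FlatMod.IsFinLocFreeOfRank 1 ((Scheme.Modules.pullback W.ι).obj ((Scheme.Modules.pullback ι).obj (Omega.sheaf f))) :=
    InvEnd.isFinLocFreeOfRank_one (PicClLib.isInvertible_pullback W.ι hinv)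
  have hn : FlatMod.IsFinLocFreeOfRank n ((Scheme.Modules.pullback W.ι).obj ((Scheme.Modules.pullback ι).obj (Omega.sheaf f))) := fun w => by
    let e : (Scheme.Modules.pullback W.ι).obj ((Scheme.Modules.pullback ι).obj (Omega.sheaf f)) ≅ FlatMod.freeMod (↑W) n :=
      ((Scheme.Modules.restrictFunctorIsoPullback W.ι).app _).symm ≪≫
      ((H23.PullPush.pullRestrictIso ι U).app _).symm ≪≫
      (Scheme.Modules.pullback (ι ∣_ U)).mapIso a ≪≫ KFlatLib.pullFreeIso _ _
    exact ⟨⊤, trivial, ⟨((Scheme.Modules.restrictFunctorIsoPullback _).app _) ≪≫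
      (Scheme.Modules.pullback _).mapIso e ≪≫ KFlatLib.pullFreeIso _ _⟩⟩
  have hn1 : n = 1 := SeesawX.rank_unique (⟨x', show ι x' ∈ U by rw [hx']; exact hxU⟩ : ↥(W : Scheme.{u})) hn h1
  exact ⟨U, hxU, ⟨hn1 ▸ a⟩⟩

theorem isInvertible_tensorPow_omega (hdim : ∀ s : S, topologicalKrullDim ↥(f.fiber s) = 1) (n : ℕ) :
    PicF.IsInvertible (CohB1.tensorPow (Omega.sheaf f) n) :=
  H23.PicMul.isInvertible_tensorPow (isInvertible_omega f hdim) n

/-- The fibres. -/
theorem isRelVeryAmplePn_fibre (hdim : ∀ s : S, topologicalKrullDim ↥(f.fiber s) = 1) {g : ℕ} (hg : 2 ≤ g)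
    (hgen : ∀ s : S, letI : (f.fiber s).Over (Spec (S.residueField s)) := ⟨f.fiberToSpecResidueField s⟩
      Curv2.genus (S.residueField s) (f.fiber s) = g) {n : ℕ} (hn : 3 ≤ n) (s : S) :
    RelAmple.IsRelVeryAmplePn (f.fiberToSpecResidueField s)
      ((Scheme.Modules.pullback (f.fiberι s)).obj (CohB1.tensorPow (Omega.sheaf f) n)) := by
  let p := f.fiberToSpecResidueField s
  letI : (f.fiber s).Over (Spec (S.residueField s)) := ⟨p⟩
  haveI : IsProper p := MorphismProperty.pullback_snd _ _ inferInstance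
  haveI : Smooth p := MorphismProperty.pullback_snd _ _ inferInstance
  haveI : IsProper ((f.fiber s) ↘ Spec (CommRingCat.of ↥(S.residueField s))) := ‹IsProper p›
  haveI : Smooth ((f.fiber s) ↘ Spec (CommRingCat.of ↥(S.residueField s))) := ‹Smooth p›
  haveI : GeometricallyConnected ((f.fiber s) ↘ Spec (CommRingCat.of ↥(S.residueField s))) :=
    (inferInstance : GeometricallyConnected p)
  obtain ⟨eΩ⟩ := GrpOmega.nonempty_omega_baseChange (f := f) (g := S.fromSpecResidueField s)
    (g' := f.fiberι s) (f' := p) (IsPullback.of_hasPullback _ _)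
  obtain ⟨ep⟩ := AmpleVan.RelVanish.pullback_tensorPow (f.fiberι s) (Omega.sheaf f) n
  obtain ⟨ec⟩ := AmpleVan.RelVanish.tensorPow_congr eΩ n
  obtain ⟨N, i, hi, hip, ⟨e⟩⟩ := exists_embedding_tensorPow_omega (k := ↥(S.residueField s)) (f.fiber s)
    (hdim s) (hgen s ▸ hg) hn
  haveI := hi
  obtain ⟨a, ha, ⟨τ⟩⟩ := SeesawX.PnSpec.exists_iso N ↥(S.residueField s)
  refine ⟨N, i ≫ a.inv, inferInstance, ?_, ⟨?_⟩⟩
  · show (i ≫ a.inv) ≫ CohB1.ProjSpaceOver.toBase N (Spec (CommRingCat.of ↥(S.residueField s))) = p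
    rw [← ha, Category.assoc, Iso.inv_hom_id_assoc]
    exact hip
  · exact (ep ≪≫ ec) ≪≫ e.symm ≪≫
      (Scheme.Modules.pullbackCongr (show (i ≫ a.inv) ≫ a.hom = i by simp)).symm.app _ ≪≫
      ((Scheme.Modules.pullbackComp (i ≫ a.inv) a.hom).app _).symm ≪≫
      (Scheme.Modules.pullback (i ≫ a.inv)).mapIso τ

/-- Relative very ampleness. -/
theorem isRelVeryAmple_tensorPow_omega (hdim : ∀ s : S, topologicalKrullDim ↥(f.fiber s) = 1) {g : ℕ} (hg : 2 ≤ g)
    (hgen : ∀ s : S, letI : (f.fiber s).Over (Spec (S.residueField s)) := ⟨f.fiberToSpecResidueField s⟩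
      Curv2.genus (S.residueField s) (f.fiber s) = g) {n : ℕ} (hn : 3 ≤ n) :
    RelProj.IsRelVeryAmple f (CohB1.tensorPow (Omega.sheaf f) n) := by
  have hL := isInvertible_tensorPow_omega f hdim n
  have h1 : ∀ y : S, Subsingleton (CohIII.fiberH f (CohB1.tensorPow (Omega.sheaf f) n) y 1) := fun y =>
    (CurveCover.fiberH_tensorPow_omega f hdim hg hgen (by omega) y).1 1 le_rfl
  choose V hyV hV using fun y =>
    exists_nhd_isRelVeryAmplePn f _ hL h1 y (isRelVeryAmplePn_fibre f hdim hg hgen hn y)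
  exact S12481.result f _ hL V (top_le_iff.1 fun y _ => Opens.mem_iSup.2 ⟨y, hyV y⟩) hV

/-- The direct image is of finite type. -/
theorem isFT_push_tensorPow_omega (hdim : ∀ s : S, topologicalKrullDim ↥(f.fiber s) = 1) {g : ℕ} (hg : 2 ≤ g)
    (hgen : ∀ s : S, letI : (f.fiber s).Over (Spec (S.residueField s)) := ⟨f.fiberToSpecResidueField s⟩
      Curv2.genus (S.residueField s) (f.fiber s) = g) {n : ℕ} (hn : 2 ≤ n) :
    CohB1.IsFT ((Scheme.Modules.pushforward f).obj (CohB1.tensorPow (Omega.sheaf f) n)) := by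
  obtain ⟨hfp, hflat⟩ := CurveCover.isFP_and_flat_tensorPow_omega f n
  haveI : Coh.IsQCoh (CohB1.tensorPow (Omega.sheaf f) n) := QCoh.isQCoh_of_isFP hfp
  have h := (S14444.result f _ hfp hflat fun y =>
    (CurveCover.fiberH_tensorPow_omega f hdim hg hgen hn y).1 1 le_rfl).1
  exact QCoh.isFT_of_isFP (QCoh.isFP_of_isFinLocFree h)

end Groth.Agent.RelVAFib
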